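import Groth.Agent.GenFreeLocus.Free
import Groth.Agent.PullbackMod.LimPSp

/-!
# Base change of freeness at the generic points of the fibres
-/

set_option autoImplicit false
set_option linter.style.haveILetI false
set_option backward.isDefEq.respectTransparency false
set_option backward.defeqAttrib.useBackward true

universe u

open CategoryTheory CategoryTheory.Limits AlgebraicGeometry TopologicalSpace Opposite
open Groth.Agent.PullbackMod

namespace Groth.Agent.GenFreeLocus

theorem freeAt_of_iso {X : Scheme.{u}} {M N : X.Modules} (e : M ≅ N) {n : ℕ} {x : X}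
    (h : FreeAt n M x) : FreeAt n N x := by
  obtain ⟨a⟩ := h
  exact ⟨(LinearEquiv.ofBijective _ ((isIso_iff_stalk e.inv).mp inferInstance x)).trans a⟩

theorem freeAt_desc {X X' : Scheme.{u}} (g : X' ⟶ X) [Flat g] (M : X.Modules) [Coh.IsQCoh M]
    (hM : CohB1.IsFT M) {n : ℕ} (x' : X') (h : FreeAt n ((Scheme.Modules.pullback g).obj M) x') :
    FreeAt n M (g x') := by
  letI := (g.stalkMap x').hom.toAlgebra
  haveI := faithfullyFlat_stalk g x'
  obtain ⟨φ, -⟩ := exists_pullback_stalk_equiv g M x'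
  obtain ⟨e⟩ := id h
  haveI : Module.Flat (X'.presheaf.stalk x')
      (TensorProduct (X.presheaf.stalk (g x')) (X'.presheaf.stalk x') (M.presheaf.stalk (g x'))) :=
    Module.Flat.of_linearEquiv (φ.trans e)
  haveI : Module.Flat (X.presheaf.stalk (g x')) (M.presheaf.stalk (g x')) :=
    Module.Flat.of_flat_tensorProduct _ _ (X'.presheaf.stalk x')
  haveI := finite_stalk_of_isFT hM (g x')
  haveI : Module.Free (X.presheaf.stalk (g x')) (M.presheaf.stalk (g x')) :=
    Module.free_of_flat_of_isLocalRing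
  let b := Module.Free.chooseBasis (X.presheaf.stalk (g x')) (M.presheaf.stalk (g x'))
  have h0 : FreeAt (Fintype.card (Module.Free.ChooseBasisIndex (X.presheaf.stalk (g x'))
      (M.presheaf.stalk (g x')))) M (g x') :=
    ⟨b.equivFun.trans (LinearEquiv.funCongrLeft _ _ (Fintype.equivFin _).symm)⟩
  rwa [freeAt_unique _ h (freeAt_pullback M g x' h0)]

variable {X S : Scheme.{u}} (f : X ⟶ S) (F : X.Modules) [Coh.IsQCoh F] (p : ℕ)

/-- Freeness of rank `p` at the generic point of every fibre of `X_T / T`. -/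
def GenFree (T : Over S) : Prop :=
  ∀ η : ↥(pullback f T.hom), FlatFun.IsGenericPtOfFibre (pullback.snd f T.hom) η →
    FreeAt p (FGA.ET f F T) η

theorem snd_XTmap {T T₀ : Over S} (g : T ⟶ T₀) (x : ↥(pullback f T.hom)) :
    pullback.snd f T₀.hom (PicF.XTmap f g x) = g.left (pullback.snd f T.hom x) := by
  rw [← Scheme.Hom.comp_apply, (isPullback_XTmap f g).w, Scheme.Hom.comp_apply]

theorem exists_point {T T₀ : Over S} (g : T ⟶ T₀) (y : ↥(pullback f T₀.hom)) (t : T.left)
    (h : pullback.snd f T₀.hom y = g.left t) :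
    ∃ x : ↥(pullback f T.hom), PicF.XTmap f g x = y ∧ pullback.snd f T.hom x = t := by
  obtain ⟨z, h1, h2⟩ := Scheme.Pullback.exists_preimage_pullback (f := pullback.snd f T₀.hom)
    (g := g.left) y t h
  refine ⟨(isPullback_XTmap f g).isoPullback.inv z, ?_, ?_⟩
  · rw [← Scheme.Hom.comp_apply, IsPullback.isoPullback_inv_fst]; exact h1
  · rw [← Scheme.Hom.comp_apply, IsPullback.isoPullback_inv_snd]; exact h2

theorem generic_map {T T₀ : Over S} (g : T ⟶ T₀) (η : ↥(pullback f T.hom))
    (h : FlatFun.IsGenericPtOfFibre (pullback.snd f T.hom) η) :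
    FlatFun.IsGenericPtOfFibre (pullback.snd f T₀.hom) (PicF.XTmap f g η) := by
  intro y hy
  obtain ⟨x, rfl, hx⟩ := exists_point f g y (pullback.snd f T.hom η) (hy.trans (snd_XTmap f g η))
  exact (h x hx).map (PicF.XTmap f g).continuous

theorem freeAt_XTmap {T T₀ : Over S} (g : T ⟶ T₀) (x : ↥(pullback f T.hom)) {n : ℕ}
    (h : FreeAt n (FGA.ET f F T₀) (PicF.XTmap f g x)) : FreeAt n (FGA.ET f F T) x := by
  haveI := isQCoh_pullback (pullback.fst f T₀.hom) F
  exact freeAt_of_iso (FGA.ETiso f F g) (freeAt_pullback _ _ x h)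

theorem genFree_stable ⦃T T₀ : Over S⦄ (g : T ⟶ T₀) (h : GenFree f F p T₀) : GenFree f F p T :=
  fun η hη => freeAt_XTmap f F g η (h _ (generic_map f g η hη))

variable [GeometricallyIrreducible f]

theorem freeAtGenericPts_iff [Smooth f] (hF : CohB1.IsFT F) (T : Over S) :
    FlatFun.FreeAtGenericPts (PicF.XTproj f T) (FGA.ET f F T) p ↔ GenFree f F p T := by
  haveI := isQCoh_pullback (pullback.fst f T.hom) F
  constructor
  · intro h η hη
    obtain ⟨x, hxt, hx, U, hxU, ⟨e⟩⟩ := h (pullback.snd f T.hom η)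
    rw [genericPt_unique (pullback.snd f T.hom) hη hx hxt.symm]
    exact freeAt_of_restrict_iso _ e hxU
  · intro h t
    obtain ⟨η, hηt, hη⟩ := exists_genericPt (pullback.snd f T.hom) t
    exact ⟨η, hηt, hη, isFreeOfRankNear_of_freeAt (pullback.snd f T.hom) _
      (isFiniteType_pullback (pullback.fst f T.hom) F hF) p h η (h η hη)⟩

theorem genFree_desc (hF : CohB1.IsFT F) (T : Over S) (h : ∀ t : T.left, ∃ (T' : Over S) (g : T' ⟶ T),
    Flat g.left ∧ t ∈ Set.range g.left ∧ GenFree f F p T') : GenFree f F p T := by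
  intro η hη
  obtain ⟨T', g, hflat, ⟨t', ht'⟩, h'⟩ := h (pullback.snd f T.hom η)
  obtain ⟨η', hη't, hη'⟩ := exists_genericPt (pullback.snd f T'.hom) t'
  have he : PicF.XTmap f g η' = η := genericPt_unique (pullback.snd f T.hom) (generic_map f g η' hη') hη
    (by rw [snd_XTmap, hη't, ht'])
  haveI := flat_XTmap f g
  haveI := isQCoh_pullback (pullback.fst f T.hom) F
  rw [← he]
  exact freeAt_desc (PicF.XTmap f g) _ (isFiniteType_pullback (pullback.fst f T.hom) F hF) η'
    (freeAt_of_iso (FGA.ETiso f F g).symm (h' η' hη'))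

theorem genFree_eventually [Smooth f] (hF : CohB1.IsFP F) ⦃I : Type u⦄ [SmallCategory I]
    [IsCofiltered I] (D : I ⥤ Over S) (c : Cone D) (hc : IsLimit ((Over.forget S).mapCone c))
    (hD : ∀ i, IsAffine (D.obj i).left) (hP : GenFree f F p c.pt) : ∃ i, GenFree f F p (D.obj i) := by
  obtain ⟨i₀⟩ := IsCofiltered.nonempty (C := I)
  let D' := D ⋙ Over.forget S
  let c' : Cone D' := (Over.forget S).mapCone c
  haveI hD' : ∀ {i j : I} (φ : i ⟶ j), IsAffineHom (D'.map φ) := fun {i j} φ => by
    haveI : IsAffine (D'.obj i) := hD i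
    haveI : IsAffine (D'.obj j) := hD j
    infer_instance
  haveI : IsAffine (D.obj i₀).left := hD i₀
  haveI : CompactSpace ↥(D'.obj i₀) := inferInstanceAs (CompactSpace ↥(D.obj i₀).left)
  haveI hq : ∀ T : Over S, Coh.IsQCoh (FGA.ET f F T) := fun T => isQCoh_pullback _ F
  have hfp : ∀ T : Over S, CohB1.IsFP (FGA.ET f F T) := fun T => isFP_pullback _ F hF
  let Q : ∀ j : Over i₀, D'.obj j.left → Prop := fun j t =>
    ∃ x : ↥(pullback f (D.obj j.left).hom),
      pullback.snd f (D.obj j.left).hom x = t ∧ FreeAt p (FGA.ET f F (D.obj j.left)) x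
  have hopen : ∀ j, IsOpen {y | Q j y} := fun j => by
    have h : {y | Q j y} = pullback.snd f (D.obj j.left).hom ''
        {x | FreeAt p (FGA.ET f F (D.obj j.left)) x} := Set.ext fun y =>
      ⟨fun ⟨x, h1, h2⟩ => ⟨x, h2, h1⟩, fun ⟨x, h2, h1⟩ => ⟨x, h1, h2⟩⟩
    rw [h]
    exact (pullback.snd f (D.obj j.left).hom).isOpenMap _ (isOpen_freeAt _ (hfp _) p)
  have hmono : ∀ {j k : Over i₀} (φ : k ⟶ j) (y : D'.obj k.left),
      Q j (D'.map φ.left y) → Q k y := fun {j k} φ y ⟨x, hx, hfree⟩ => by
    obtain ⟨x', rfl, hx'⟩ := exists_point f (D.map φ.left) x y hx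
    exact ⟨x', hx', freeAt_XTmap f F (D.map φ.left) x' hfree⟩
  have hpt : ∀ t : c'.pt, ∃ j : Over i₀, Q j (c'.π.app j.left t) := fun t => by
    obtain ⟨η, hηt, hη⟩ := exists_genericPt (pullback.snd f c.pt.hom) t
    let a : pullback f (D.obj i₀).hom ⟶ D'.obj i₀ := pullback.snd f (D.obj i₀).hom
    let E := AffLim.baseChange D' i₀ a
    let e : Cone E := AffLim.baseChangeCone D' c' i₀ a
    let i₁ : Over i₀ := Over.mk (𝟙 i₀)
    let g : E.obj i₁ ⟶ X := pullback.fst a (D'.map i₁.hom) ≫ pullback.fst f (D.obj i₀).hom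
    haveI : ∀ {i j : Over i₀} (φ : i ⟶ j), IsAffineHom (E.map φ) :=
      fun φ => AffLim.isAffineHom_baseChange_map D' i₀ a φ
    haveI := isQCoh_pullback g F
    let w : e.pt ⟶ pullback f c.pt.hom :=
      pullback.lift (pullback.fst a (c'.π.app i₀) ≫ pullback.fst f (D.obj i₀).hom)
        (pullback.snd a (c'.π.app i₀)) (by
          rw [Category.assoc, pullback.condition, ← Category.assoc, pullback.condition,
            Category.assoc]
          exact congrArg _ (Over.w (c.π.app i₀)))
    let w' : pullback f c.pt.hom ⟶ e.pt :=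
      pullback.lift (PicF.XTmap f (c.π.app i₀)) (pullback.snd f c.pt.hom)
        (isPullback_XTmap f (c.π.app i₀)).w
    have hw : w' ≫ w = 𝟙 _ := by
      apply pullback.hom_ext <;> simp [w, w', e, FGA.XTmap_fst]
    have hcomp : e.π.app i₁ ≫ g = w ≫ pullback.fst f c.pt.hom := by
      simp [g, w, e]
    have hη1 : FreeAt p ((Scheme.Modules.pullback (e.π.app i₁)).obj
        ((Scheme.Modules.pullback g).obj F)) (w' η) := by
      have h1 : FreeAt p (FGA.ET f F c.pt) (w (w' η)) := by
        rw [← Scheme.Hom.comp_apply, hw]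
        exact hP η hη
      exact freeAt_of_iso ((Scheme.Modules.pullbackComp w _ ≪≫
          Scheme.Modules.pullbackCongr hcomp.symm ≪≫
          (Scheme.Modules.pullbackComp (e.π.app i₁) g).symm).app F)
        (freeAt_pullback _ w _ h1)
    obtain ⟨j, hj⟩ := exists_stage_freeAt E e
      (AffLim.nonempty_isLimit_baseChangeCone D' c' hc i₀ a).some i₁
      (isFP_pullback g F hF) (w' η) hη1
    let v : pullback f (D.obj j.left.left).hom ⟶ E.obj j.left :=
      pullback.lift (PicF.XTmap f (D.map j.left.hom)) (pullback.snd f (D.obj j.left.left).hom)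
        (isPullback_XTmap f (D.map j.left.hom)).w
    let y := PicF.XTmap f (c.π.app j.left.left) η
    have hh : PicF.XTmap f (c.π.app j.left.left) ≫ v = w' ≫ e.π.app j.left := by
      apply pullback.hom_ext
      · apply pullback.hom_ext
        · simp [v, w', e, E, FGA.XTmap_fst]
        · simp [v, w', e, E, a, (isPullback_XTmap f _).w]
          rw [← Category.assoc, (isPullback_XTmap f (c.π.app j.left.left)).w, Category.assoc]
          exact congrArg _ (congrArg CommaMorphism.left (c.w j.left.hom))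
      · simp [v, w', e, E, (isPullback_XTmap f _).w]
        rfl
    have hy : v y = e.π.app j.left (w' η) := congrArg (fun φ => φ η) hh
    refine ⟨j.left, y, ?_, ?_⟩
    · exact (snd_XTmap f (c.π.app j.left.left) η).trans (congrArg _ hηt)
    · have hv : v ≫ E.map j.hom ≫ g = pullback.fst f (D.obj j.left.left).hom := by
        simp [v, E, g, FGA.XTmap_fst]
      haveI : Coh.IsQCoh ((Scheme.Modules.pullback g ⋙ Scheme.Modules.pullback (E.map j.hom)).obj F) :=
        isQCoh_pullback (E.map j.hom) ((Scheme.Modules.pullback g).obj F)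
      exact freeAt_of_iso ((((Scheme.Modules.pullback v).mapIso
          ((Scheme.Modules.pullbackComp (E.map j.hom) g).app F))) ≪≫
          (Scheme.Modules.pullbackComp v (E.map j.hom ≫ g) ≪≫
            Scheme.Modules.pullbackCongr hv).app F)
        (freeAt_pullback _ v y (hy ▸ hj))
  obtain ⟨j, hj⟩ := exists_all_of_open D' c' hc i₀ Q hopen hmono hpt
  refine ⟨j.left, fun η hη => ?_⟩
  obtain ⟨x, hx, hfree⟩ := hj (pullback.snd f (D.obj j.left).hom η)
  exact (hη x hx).mem_open (isOpen_freeAt _ (hfp _) p) hfree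

end Groth.Agent.GenFreeLocus
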