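import Groth.Agent.FibreComp.BaseChange
import Groth.Agent.FibDimLib.Basic
import Groth.Agent.ASp.IntegralDim
import Groth.Agent.S0402
import Groth.Agent.FlatStage.Given
import Groth.Agent.GenFreeLocus.Functor
import Groth.Agent.PullbackMod.LimPSp
import Groth.Prelude.Def_FlatFun

/-!
# Flatness in dimensions at least `n` under base change
-/

set_option autoImplicit false
set_option linter.style.haveILetI false
set_option backward.isDefEq.respectTransparency false
set_option backward.defeqAttrib.useBackward true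

universe u

open CategoryTheory CategoryTheory.Limits AlgebraicGeometry TopologicalSpace Opposite
open Groth.Agent.PullbackMod

namespace Groth.Agent.GenFreeLocus

section trdeg

variable {X S X' S' : Scheme.{u}} {f : X ⟶ S} [LocallyOfFiniteType f] {g : S' ⟶ S}
  {g' : X' ⟶ X} {f' : X' ⟶ S'} (sq : IsPullback g' f' f g)

include sq in
/-- Transcendence degrees can only drop under base change and are attained over any point. -/
theorem trdeg_baseChange (x' : X') :
    (∀ n : ℕ, Dual3.resTrdeg f (g' x') < (n : Cardinal.{u}) → Dual3.resTrdeg f' x' < (n : Cardinal.{u})) ∧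
      ∃ z : X', g' z = g' x' ∧ f' z = f' x' ∧ Dual3.resTrdeg f' z = Dual3.resTrdeg f (g' x') := by
  haveI : LocallyOfFiniteType f' := MorphismProperty.of_isPullback sq inferInstance
  have hdim : ∀ {A B : Scheme.{u}} (h : A ⟶ B) [LocallyOfFiniteType h] (a : A), ∃ d t : ℕ,
      ringKrullDim (CInt.fiberStalk h a) = (d : WithBot ℕ∞) ∧ Dual3.resTrdeg h a = (t : Cardinal.{u}) ∧
        FlatMor.fibreDimAt h a = ((d + t : ℕ) : WithBot ℕ∞) := fun h _ a => by
    obtain ⟨d, t, hd, ht, hD⟩ := ASp.exists_fibre_dims h a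
    refine ⟨d, t, ?_, ht, hD⟩
    rw [← hd, S14105.dim_stalk_fiber, Scheme.Hom.fiberι_asFiber]
  obtain ⟨d, t, hd, ht, hD⟩ := hdim f (g' x')
  obtain ⟨d', t', hd', ht', hD'⟩ := hdim f' x'
  have h0 := LocDimBC.fibreDimAt_baseChange sq x'
  rw [hD, hD'] at h0
  have h1 : d' + t' = d + t := by exact_mod_cast h0
  have h2 : d ≤ d' := by
    have := FibreComp.fiberStalk_dim_le_of_isPullback sq x'
    rw [hd, hd'] at this
    exact_mod_cast this
  refine ⟨fun n hn => ?_, ?_⟩
  · rw [ht] at hn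
    rw [ht']
    have : t < n := by exact_mod_cast hn
    exact_mod_cast (show t' < n by omega)
  · obtain ⟨z, hz1, hz2, hz3⟩ := FibreComp.exists_fiberStalk_dim_eq_of_isPullback sq x'
    obtain ⟨e, r, he, hr, hE⟩ := hdim f' z
    have h3 := LocDimBC.fibreDimAt_baseChange sq z
    rw [hz1, hD, hE] at h3
    have h4 : e + r = d + t := by exact_mod_cast h3
    have h5 : e = d := by
      rw [he, hd] at hz3
      exact_mod_cast hz3
    exact ⟨z, hz1, hz2, by rw [hr, ht, show r = t by omega]⟩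

end trdeg

/-- An open neighbourhood of a point whose fibre meets a closed set in dimension less than `n`. -/
theorem exists_nhd_trdeg_lt {X T : Scheme.{u}} (q : X ⟶ T) [LocallyOfFiniteType q] (Z : Set X)
    (hZ : IsClosed Z) (n : ℕ) (z : X)
    (h : ∀ y ∈ Z, q y = q z → Dual3.resTrdeg q y < (n : Cardinal.{u})) :
    ∃ V : X.Opens, z ∈ V ∧ ∀ y ∈ V, y ∈ Z → Dual3.resTrdeg q y < (n : Cardinal.{u}) := by
  by_cases hz : z ∈ Z
  swap
  · exact ⟨⟨Zᶜ, hZ.isOpen_compl⟩, hz, fun y hy hy' => absurd hy' hy⟩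
  obtain ⟨m, rfl⟩ : ∃ m, n = m + 1 := Nat.exists_eq_succ_of_ne_zero fun h0 => by
    have := h z hz rfl
    rw [h0, Nat.cast_zero] at this
    exact not_lt_zero this
  let I := Scheme.IdealSheafData.vanishingIdeal (⟨Z, hZ⟩ : Closeds X)
  let i := I.subschemeι
  have hr : Set.range i = Z := by
    rw [Scheme.IdealSheafData.range_subschemeι, Scheme.IdealSheafData.coe_support_vanishingIdeal]
    rfl
  have htr : ∀ w, Dual3.resTrdeg (i ≫ q) w = Dual3.resTrdeg q (i w) := fun w => by
    show DimFormulaLib.resTrdegAt (i ≫ q) w = DimFormulaLib.resTrdegAt q (i w)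
    rw [FlatDim.resTrdegAt_comp i q w, FlatDim.resTrdegAt_preimmersion i w, add_zero]
  obtain ⟨z', rfl⟩ := hr.ge hz
  have hle : FlatMor.fibreDimAt (i ≫ q) z' ≤ (m : WithBot ℕ∞) := by
    refine (ASp.localDim_le_topologicalKrullDim _ _).trans ?_
    by_contra hcon
    let s := (i ≫ q) z'
    haveI : LocallyOfFiniteType ((i ≫ q).fiberToSpecResidueField s) :=
      MorphismProperty.pullback_snd _ _ inferInstance
    obtain ⟨w, t, ht, hmt⟩ := FibDimLib.exists_point (k := T.residueField s)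
      ((i ≫ q).fiberToSpecResidueField s) (m + 1) (by
        rcases lt_or_ge (topologicalKrullDim ↥((i ≫ q).fiber s)) ((m + 1 : ℕ) : WithBot ℕ∞) with h' | h'
        · refine absurd ?_ hcon
          change topologicalKrullDim ↥((i ≫ q).fiber s) ≤ _
          generalize topologicalKrullDim ↥((i ≫ q).fiber s) = D at h' ⊢
          induction D with
          | bot => exact bot_le
          | coe a =>
            have h2 : a < (m : ℕ∞) + 1 := by exact_mod_cast h'
            exact_mod_cast (ENat.lt_add_one_iff (ENat.coe_ne_top m)).1 h2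
        · exact h')
    have hw : q (i ((i ≫ q).fiberι s w)) = q (i z') := by
      rw [← Scheme.Hom.comp_apply]
      exact ((i ≫ q).range_fiberι s).le ⟨w, rfl⟩
    have h1 := h _ (hr.le ⟨_, rfl⟩) hw
    rw [← htr, show Dual3.resTrdeg (i ≫ q) ((i ≫ q).fiberι s w) =
      DimFormulaLib.resTrdegAt ((i ≫ q).fiberToSpecResidueField s) w from (FlatDim.resTrdegAt_fibre (i ≫ q) s w).symm, ht] at h1
    have : t < m + 1 := by exact_mod_cast h1
    omega
  obtain ⟨O, hO, hOe⟩ := i.isEmbedding.isInducing.isOpen_iff.1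
    (S0402.result (i ≫ q) m)
  refine ⟨⟨O, hO⟩, ?_, fun y hy hyZ => ?_⟩
  · exact hOe.ge hle
  · obtain ⟨w, rfl⟩ := hr.ge hyZ
    have hw : FlatMor.fibreDimAt (i ≫ q) w ≤ (m : WithBot ℕ∞) := hOe.le hy
    obtain ⟨d, t, -, ht, hD⟩ := ASp.exists_fibre_dims (i ≫ q) w
    rw [hD] at hw
    have h2 : d + t ≤ m := by exact_mod_cast hw
    rw [← htr, ht]
    exact_mod_cast (show t < m + 1 by omega)

section functor

variable {X S : Scheme.{u}} (f : X ⟶ S) (F : X.Modules) [Coh.IsQCoh F] (n : ℕ)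

/-- `F_T` is flat in dimensions at least `n`. -/
def FlatDimGE (T : Over S) : Prop :=
  ∀ x : ↥(pullback f T.hom), ¬ FlatMod.IsFlatOverAt (pullback.snd f T.hom) (FGA.ET f F T) x →
    Dual3.resTrdeg (pullback.snd f T.hom) x < (n : Cardinal.{u})

theorem dimFibresLT_iff (T : Over S) :
    FlatFun.DimFibresLT n (PicF.XTproj f T)
      {x | ¬ FlatMod.IsFlatOverAt (PicF.XTproj f T) (FGA.ET f F T) x} ↔ FlatDimGE f F n T :=
  Iff.rfl

theorem flatAt_XTmap {T T₀ : Over S} (g : T ⟶ T₀) (x : ↥(pullback f T.hom))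
    (h : FlatMod.IsFlatOverAt (pullback.snd f T₀.hom) (FGA.ET f F T₀) (PicF.XTmap f g x)) :
    FlatMod.IsFlatOverAt (pullback.snd f T.hom) (FGA.ET f F T) x := by
  haveI := isQCoh_pullback (pullback.fst f T₀.hom) F
  exact PullbackMod.isFlatOverAt_of_iso (FGA.ETiso f F g) _ x
    (PullbackMod.isFlatOverAt_baseChange (isPullback_XTmap f g) _ x h)

variable [LocallyOfFiniteType f]

theorem flatDimGE_stable ⦃T T₀ : Over S⦄ (g : T ⟶ T₀) (h : FlatDimGE f F n T₀) :
    FlatDimGE f F n T := fun x hx =>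
  (trdeg_baseChange (isPullback_XTmap f g) x).1 n (h _ fun h0 => hx (flatAt_XTmap f F g x h0))

theorem flatDimGE_desc (T : Over S) (h : ∀ t : T.left, ∃ (T' : Over S) (g : T' ⟶ T),
    Flat g.left ∧ t ∈ Set.range g.left ∧ FlatDimGE f F n T') : FlatDimGE f F n T := by
  intro x hx
  obtain ⟨T', g, hflat, ⟨t', ht'⟩, h'⟩ := h (pullback.snd f T.hom x)
  obtain ⟨x', rfl, -⟩ := exists_point f g x t' ht'.symm
  obtain ⟨z, hz1, -, hz3⟩ := (trdeg_baseChange (isPullback_XTmap f g) x').2
  haveI := isQCoh_pullback (pullback.fst f T.hom) F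
  rw [← hz3]
  refine h' z fun hz => hx ?_
  rw [← hz1]
  exact PullbackMod.isFlatOverAt_of_baseChange (isPullback_XTmap f g) _ z (Flat.stalkMap g.left _)
    (PullbackMod.isFlatOverAt_of_iso (FGA.ETiso f F g).symm _ z hz)

theorem exists_stage_flatAt [QuasiCompact f] [LocallyOfFinitePresentation f] (hF : CohB1.IsFP F)
    {I : Type u} [SmallCategory I] [IsCofiltered I] (D : I ⥤ Over S) (c : Cone D)
    (hc : IsLimit ((Over.forget S).mapCone c)) (hD : ∀ i, IsAffine (D.obj i).left) (i₀ : I)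
    (x : ↥(pullback f c.pt.hom))
    (h : FlatMod.IsFlatOverAt (pullback.snd f c.pt.hom) (FGA.ET f F c.pt) x) :
    ∃ k : Over i₀, FlatMod.IsFlatOverAt (pullback.snd f (D.obj k.left).hom)
      (FGA.ET f F (D.obj k.left)) (PicF.XTmap f (c.π.app k.left) x) := by
  let D' := D ⋙ Over.forget S
  let c' : Cone D' := (Over.forget S).mapCone c
  haveI hD' : ∀ {i j : I} (φ : i ⟶ j), IsAffineHom (D'.map φ) := fun {i j} φ => by
    haveI : IsAffine (D'.obj i) := hD i
    haveI : IsAffine (D'.obj j) := hD j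
    infer_instance
  let f₀ : pullback f (D.obj i₀).hom ⟶ D'.obj i₀ := pullback.snd f (D.obj i₀).hom
  haveI := isQCoh_pullback (pullback.fst f (D.obj i₀).hom) F
  have hid : ∀ {A B : Scheme.{u}} (a : A ⟶ B), IsPullback a (𝟙 A) (𝟙 B) a := fun a =>
    IsPullback.of_vert_isIso ⟨by simp⟩
  have hY : IsPullback (c'.π.app i₀) (𝟙 c'.pt) (𝟙 (D'.obj i₀)) (c'.π.app i₀) := hid _
  have h' : FlatMod.IsFlatOverAt (pullback.snd f c.pt.hom)
      ((Scheme.Modules.pullback (PicF.XTmap f (c.π.app i₀))).obj (FGA.ET f F (D.obj i₀))) x :=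
    PullbackMod.isFlatOverAt_of_iso (FGA.ETiso f F (c.π.app i₀)).symm _ x h
  obtain ⟨k, -, hk⟩ := FlatStage.exists_isFlatOverAt D' c' i₀ (𝟙 (D'.obj i₀)) hY hc f₀
    (isPullback_XTmap f (c.π.app i₀)) (FGA.ET f F (D.obj i₀))
    (PullbackMod.isFP_pullback _ F hF) x (Over.mk (𝟙 i₀)) h'
  have h1 : IsPullback (D'.map k.hom) (𝟙 (D'.obj k.left)) (𝟙 (D'.obj i₀)) (D'.map k.hom) := hid _
  obtain ⟨eX, eY, he1, he2, hsq, -⟩ := FlatStage.exists_comparison D' i₀ f₀ (𝟙 (D'.obj i₀)) k h1
    (isPullback_XTmap f (D.map k.hom))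
  have hh : PicF.XTmap f (c.π.app k.left) ≫ eX.hom = FlatStage.vMap D' c' i₀ (f₀ ≫ 𝟙 (D'.obj i₀))
      ((isPullback_XTmap f (c.π.app i₀)).paste_vert hY) k := by
    apply pullback.hom_ext
    · rw [Category.assoc, he1, FlatStage.vMap_fst]
      apply pullback.hom_ext
      · simp [FGA.XTmap_fst]
      · rw [Category.assoc, (isPullback_XTmap f (D.map k.hom)).w, ← Category.assoc,
          (isPullback_XTmap f (c.π.app k.left)).w, (isPullback_XTmap f (c.π.app i₀)).w, Category.assoc]
        exact congrArg _ (congrArg CommaMorphism.left (c.w k.hom))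
    · rw [Category.assoc, he2, FlatStage.vMap_snd]
      simp only [Category.comp_id]
      exact (isPullback_XTmap f (c.π.app k.left)).w
  refine ⟨k, PullbackMod.isFlatOverAt_of_iso (FGA.ETiso f F (D.map k.hom)) _ _
    (FlatStage.isFlatOverAt_of_square hsq _ he1 (FGA.ET f F (D.obj i₀)) _ ?_)⟩
  rw [← Scheme.Hom.comp_apply, hh]
  exact hk

omit [LocallyOfFiniteType f] in
theorem XTmap_comp {T T' T'' : Over S} (g : T ⟶ T') (g' : T' ⟶ T'') :
    PicF.XTmap f (g ≫ g') = PicF.XTmap f g ≫ PicF.XTmap f g' := by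
  apply pullback.hom_ext
  · simp [FGA.XTmap_fst]
  · rw [Category.assoc, (isPullback_XTmap f g').w, (isPullback_XTmap f (g ≫ g')).w, ← Category.assoc,
      (isPullback_XTmap f g).w, Category.assoc, Over.comp_left]

theorem flatDimGE_eventually [QuasiCompact f] [LocallyOfFinitePresentation f] (hF : CohB1.IsFP F)
    ⦃I : Type u⦄ [SmallCategory I] [IsCofiltered I] (D : I ⥤ Over S) (c : Cone D)
    (hc : IsLimit ((Over.forget S).mapCone c)) (hD : ∀ i, IsAffine (D.obj i).left)
    (hP : FlatDimGE f F n c.pt) : ∃ i, FlatDimGE f F n (D.obj i) := by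
  classical
  obtain ⟨i₀⟩ := IsCofiltered.nonempty (C := I)
  let D' := D ⋙ Over.forget S
  let c' : Cone D' := (Over.forget S).mapCone c
  haveI hD' : ∀ {i j : I} (φ : i ⟶ j), IsAffineHom (D'.map φ) := fun {i j} φ => by
    haveI : IsAffine (D'.obj i) := hD i
    haveI : IsAffine (D'.obj j) := hD j
    infer_instance
  haveI : IsAffine (D.obj i₀).left := hD i₀
  haveI : CompactSpace ↥(pullback f (D.obj i₀).hom) :=
    QuasiCompact.compactSpace_of_compactSpace (pullback.snd f (D.obj i₀).hom)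
  haveI hq : ∀ T : Over S, Coh.IsQCoh (FGA.ET f F T) := fun T => isQCoh_pullback _ F
  have hfp : ∀ T : Over S, CohB1.IsFP (FGA.ET f F T) := fun T => isFP_pullback _ F hF
  let NF : ∀ T : Over S, Set ↥(pullback f T.hom) := fun T =>
    {y | ¬ FlatMod.IsFlatOverAt (pullback.snd f T.hom) (FGA.ET f F T) y}
  have hNF : ∀ T, IsClosed (NF T) := fun T =>
    (FlatLocus.isOpen_isFlatOverAt _ _ (hfp T)).isClosed_compl
  let Good : ∀ T : Over S, Set ↥(pullback f T.hom) := fun T =>
    {z | ∃ V : (pullback f T.hom).Opens, z ∈ V ∧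
      ∀ y ∈ V, y ∈ NF T → Dual3.resTrdeg (pullback.snd f T.hom) y < (n : Cardinal.{u})}
  let a : pullback f (D.obj i₀).hom ⟶ D'.obj i₀ := pullback.snd f (D.obj i₀).hom
  let E := AffLim.baseChange D' i₀ a
  let e : Cone E := AffLim.baseChangeCone D' c' i₀ a
  let i₁ : Over i₀ := Over.mk (𝟙 i₀)
  haveI : ∀ {i j : Over i₀} (φ : i ⟶ j), IsAffineHom (E.map φ) :=
    fun φ => AffLim.isAffineHom_baseChange_map D' i₀ a φ
  haveI : CompactSpace ↥(E.obj i₁) := AffLim.compactSpace_baseChange D' i₀ a i₁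
  let u : ∀ j : Over i₀, E.obj j ⟶ pullback f (D.obj j.left).hom := fun j =>
    pullback.lift (pullback.fst a (D'.map j.hom) ≫ pullback.fst f (D.obj i₀).hom)
      (pullback.snd a (D'.map j.hom)) (by
        rw [Category.assoc, pullback.condition, ← Category.assoc, pullback.condition, Category.assoc]
        exact congrArg _ (Over.w (D.map j.hom)))
  let v : ∀ j : Over i₀, pullback f (D.obj j.left).hom ⟶ E.obj j := fun j =>
    pullback.lift (PicF.XTmap f (D.map j.hom)) (pullback.snd f (D.obj j.left).hom)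
      (isPullback_XTmap f (D.map j.hom)).w
  have hvu : ∀ j, v j ≫ u j = 𝟙 _ := fun j => by
    apply pullback.hom_ext <;> simp [u, v, E, FGA.XTmap_fst]
  let w : e.pt ⟶ pullback f c.pt.hom :=
    pullback.lift (pullback.fst a (c'.π.app i₀) ≫ pullback.fst f (D.obj i₀).hom)
      (pullback.snd a (c'.π.app i₀)) (by
        rw [Category.assoc, pullback.condition, ← Category.assoc, pullback.condition,
          Category.assoc]
        exact congrArg _ (Over.w (c.π.app i₀)))
  have hu : ∀ {j k : Over i₀} (φ : k ⟶ j),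
      E.map φ ≫ u j = u k ≫ PicF.XTmap f (D.map φ.left) := fun {j k} φ => by
    apply pullback.hom_ext
    · simp [u, E, FGA.XTmap_fst]
    · simp [u, E, (isPullback_XTmap f (D.map φ.left)).w]
      rfl
  have hwu : ∀ j, e.π.app j ≫ u j = w ≫ PicF.XTmap f (c.π.app j.left) := fun j => by
    apply pullback.hom_ext
    · simp [u, w, e, E, FGA.XTmap_fst]
    · simp [u, w, e, E, (isPullback_XTmap f (c.π.app j.left)).w]
      rfl
  have hnfmap : ∀ {T T₀ : Over S} (g : T ⟶ T₀) (y : ↥(pullback f T.hom)), y ∈ NF T →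
      PicF.XTmap f g y ∈ NF T₀ := fun g y hy h0 => hy (flatAt_XTmap f F g y h0)
  have hpt : ∀ x : ↥(pullback f c.pt.hom), ∃ k : Over i₀,
      PicF.XTmap f (c.π.app k.left) x ∈ Good (D.obj k.left) := by
    intro x
    by_cases hx : FlatMod.IsFlatOverAt (pullback.snd f c.pt.hom) (FGA.ET f F c.pt) x
    · obtain ⟨k, hk⟩ := exists_stage_flatAt f F hF D c hc hD i₀ x hx
      exact ⟨k, ⟨_, FlatLocus.isOpen_isFlatOverAt _ _ (hfp _)⟩, hk, fun y hy hy' => absurd hy hy'⟩
    · let q := pullback.snd f c.pt.hom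
      let t := q x
      haveI : LocallyOfFiniteType (q.fiberToSpecResidueField t) :=
        MorphismProperty.pullback_snd _ _ inferInstance
      haveI : IsLocallyNoetherian (q.fiber t) :=
        LocallyOfFiniteType.isLocallyNoetherian (q.fiberToSpecResidueField t)
      haveI : IsNoetherian (q.fiber t) := {}
      let C : Over i₀ → Closeds ↥(q.fiber t) := fun k =>
        ⟨q.fiberι t ⁻¹' (PicF.XTmap f (c.π.app k.left) ⁻¹' NF (D.obj k.left)),
          ((hNF _).preimage (PicF.XTmap f (c.π.app k.left)).continuous).preimage (q.fiberι t).continuous⟩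
      have hC : ∀ {l k : Over i₀} (_ : l ⟶ k), C l ≤ C k := fun {l k} φ y hy => by
        have h2 := hnfmap (D.map φ.left) _ hy
        show PicF.XTmap f (c.π.app k.left) (q.fiberι t y) ∈ NF (D.obj k.left)
        rw [← c.w φ.left, XTmap_comp, Scheme.Hom.comp_apply]
        exact h2
      obtain ⟨_, ⟨k, rfl⟩, hmin⟩ := WellFounded.has_min (r := fun A B : Closeds ↥(q.fiber t) => A < B)
        wellFounded_lt (Set.range C) ⟨C i₁, i₁, rfl⟩
      have hlim : ∀ y : ↥(pullback f c.pt.hom), q y = t →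
          PicF.XTmap f (c.π.app k.left) y ∈ NF (D.obj k.left) → y ∈ NF c.pt := by
        intro y hy hyk hflat
        obtain ⟨y, rfl⟩ : y ∈ Set.range (q.fiberι t) := (q.range_fiberι t).ge hy
        obtain ⟨k', hk'⟩ := exists_stage_flatAt f F hF D c hc hD i₀ _ hflat
        obtain ⟨l, φ, ψ, -⟩ := IsCofilteredOrEmpty.cone_objs k k'
        have h2 : C l = C k := eq_of_le_of_not_lt (hC φ) (hmin _ ⟨l, rfl⟩)
        exact (hC ψ (show y ∈ C l by rw [h2]; exact hyk)) hk'
      refine ⟨k, exists_nhd_trdeg_lt _ (NF (D.obj k.left)) (hNF _) n _ fun y hy hyt => ?_⟩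
      have hsq := isPullback_XTmap f (c.π.app k.left)
      obtain ⟨x', hx1, hx2⟩ := exists_point f (c.π.app k.left) y t (hyt.trans (snd_XTmap f _ x))
      obtain ⟨z, hz1, hz2, hz3⟩ := (trdeg_baseChange hsq x').2
      subst hx1
      rw [← hz3]
      exact hP z (hlim z (hz2.trans hx2) (by rw [hz1]; exact hy))
  obtain ⟨j, hj⟩ := exists_all_of_open E e
    (AffLim.nonempty_isLimit_baseChangeCone D' c' hc i₀ a).some i₁
    (fun j z => u j.left z ∈ Good (D.obj j.left.left))
    (fun j => by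
      refine IsOpen.preimage (u j.left).continuous (isOpen_iff_forall_mem_open.mpr ?_)
      rintro z ⟨V, hz, hV⟩
      exact ⟨V, fun y hy => ⟨V, hy, hV⟩, V.2, hz⟩)
    (fun {j k} φ z ⟨V, hz, hV⟩ => by
      rw [← Scheme.Hom.comp_apply, hu, Scheme.Hom.comp_apply] at hz
      refine ⟨PicF.XTmap f (D.map φ.left.left) ⁻¹ᵁ V, hz, fun y hy hy' => ?_⟩
      exact (trdeg_baseChange (isPullback_XTmap f _) y).1 n (hV _ hy (hnfmap _ y hy')))
    (fun z => by
      obtain ⟨k, hk⟩ := hpt (w z)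
      refine ⟨Over.mk (Over.homMk (U := k) (V := i₁) k.hom (by simp [i₁])), ?_⟩
      show u k (e.π.app k z) ∈ Good (D.obj k.left)
      rw [← Scheme.Hom.comp_apply, hwu, Scheme.Hom.comp_apply]
      exact hk)
  refine ⟨j.left.left, fun y hy => ?_⟩
  obtain ⟨V, hyV, hV⟩ := hj (v j.left y)
  rw [← Scheme.Hom.comp_apply, hvu] at hyV
  exact hV y hyV hy

end functor

end Groth.Agent.GenFreeLocus
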