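import Groth.Agent.GenFreeLocus.Ring
import Groth.Agent.PullbackMod.LimFree
import Groth.Agent.FlatLocus.FreeNhd
import Groth.Agent.QCohLib.FiniteType
import Groth.Prelude.Def_FlatFun

/-!
# Modules free at the generic points of the fibres of a smooth morphism
-/

set_option autoImplicit false
set_option linter.style.haveILetI false
set_option backward.isDefEq.respectTransparency false
set_option backward.defeqAttrib.useBackward true

universe u

open CategoryTheory CategoryTheory.Limits AlgebraicGeometry TopologicalSpace Opposite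
open Groth.Agent.PullbackMod

namespace Groth.Agent.GenFreeLocus

variable {X T : Scheme.{u}} (q : X ⟶ T)

theorem exists_genericPt [GeometricallyIrreducible q] (t : T) :
    ∃ x : X, q x = t ∧ FlatFun.IsGenericPtOfFibre q x := by
  obtain ⟨η, hη⟩ : ∃ η : q.fiber t, IsGenericPoint η (Set.univ : Set (q.fiber t)) :=
    QuasiSober.sober (IrreducibleSpace.isIrreducible_univ _) isClosed_univ
  have hmem : ∀ z : q.fiber t, q (q.fiberι t z) = t := fun z => by
    have : q.fiberι t z ∈ q.base ⁻¹' {t} := (q.range_fiberι t).le ⟨z, rfl⟩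
    exact this
  refine ⟨q.fiberι t η, hmem η, fun x' hx' => ?_⟩
  rw [hmem η] at hx'
  obtain ⟨z, rfl⟩ : x' ∈ Set.range (q.fiberι t) := (q.range_fiberι t).ge hx'
  exact (hη.specializes (Set.mem_univ z)).map (q.fiberι t).continuous

theorem genericPt_unique {x y : X} (hx : FlatFun.IsGenericPtOfFibre q x)
    (hy : FlatFun.IsGenericPtOfFibre q y) (h : q x = q y) : x = y :=
  ((hx y h.symm).antisymm (hy x h)).eq

theorem exists_spanning (G : X.Modules) [Coh.IsQCoh G] (hG : CohB1.IsFT G) (p : ℕ) (x : X)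
    (hx : FreeAt p G x) :
    ∃ (V : T.Opens) (D : X.Opens), IsAffineOpen V ∧ IsAffineOpen D ∧ x ∈ D ∧ D ≤ q ⁻¹ᵁ V ∧
      ∃ m : Fin p → Γ(G, D), Submodule.span Γ(X, D) (Set.range m) = ⊤ := by
  classical
  obtain ⟨_, ⟨V : T.Opens, (hV : IsAffineOpen V), rfl⟩, hxV, -⟩ :=
    T.isBasis_affineOpens.exists_subset_of_mem_open (Set.mem_univ (q x)) isOpen_univ
  obtain ⟨_, ⟨W : X.Opens, (hW : IsAffineOpen W), rfl⟩, hxW, hWV⟩ :=
    X.isBasis_affineOpens.exists_subset_of_mem_open (a := x) (u := ↑(q ⁻¹ᵁ V)) hxV (q ⁻¹ᵁ V).2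
  haveI := QCohLib.finite_sections G hG hW
  letI := Module.compHom (G.presheaf.stalk x) (X.presheaf.germ W x hxW).hom
  letI : Algebra Γ(X, W) (X.presheaf.stalk x) :=
    TopCat.Presheaf.algebra_section_stalk X.presheaf ⟨x, hxW⟩
  haveI := hW.isLocalization_stalk ⟨x, hxW⟩
  haveI : IsScalarTower Γ(X, W) (X.presheaf.stalk x) (G.presheaf.stalk x) :=
    .of_algebraMap_smul fun _ _ => rfl
  haveI := FlatLocus.isLocalizedModule_germL G hW x hxW
  let P := (hW.primeIdealOf ⟨x, hxW⟩).asIdeal.primeCompl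
  let gl := FlatLocus.germL G W x hxW
  obtain ⟨e⟩ := hx
  have hrep : ∀ z, ∃ (m : Γ(G, W)) (s : P), IsLocalizedModule.mk' gl m s = z := fun z => by
    obtain ⟨⟨m, s⟩, h⟩ := IsLocalizedModule.mk'_surjective P gl z
    exact ⟨m, s, h⟩
  choose m s hms using fun i : Fin p => hrep (e.symm (Pi.single i 1))
  let N := Submodule.span Γ(X, W) (Set.range m)
  have hN : ∀ z, ∃ n ∈ N, ∃ t : P, IsLocalizedModule.mk' gl n t = z := by
    have htop : Submodule.localized' (X.presheaf.stalk x) P gl N = ⊤ := by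
      refine eq_top_iff.2 fun z _ => ?_
      rw [← e.symm_apply_apply z, ← Finset.univ_sum_single (e z), map_sum]
      refine Submodule.sum_mem _ fun i _ => ?_
      have : e.symm (Pi.single i (e z i)) = (e z i) • e.symm (Pi.single i 1) := by
        rw [← map_smul, ← Pi.single_smul', smul_eq_mul, mul_one]
      rw [this]
      exact Submodule.smul_mem _ _ ⟨m i, Submodule.subset_span ⟨i, rfl⟩, s i, hms i⟩
    intro z
    exact (htop ▸ Submodule.mem_top : z ∈ Submodule.localized' (X.presheaf.stalk x) P gl N)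
  have hkill : ∀ z : Γ(G, W), ∃ a : P, (a : Γ(X, W)) • z ∈ N := fun z => by
    obtain ⟨n, hn, t, ht⟩ := hN (gl z)
    rw [IsLocalizedModule.mk'_eq_iff] at ht
    have h2 : gl n = gl (t • z) := by rw [ht]; exact (map_smul gl (t : Γ(X, W)) z).symm
    obtain ⟨c, hc⟩ := (IsLocalizedModule.eq_iff_exists P gl).1 h2
    refine ⟨c * t, ?_⟩
    have : ((c * t : P) : Γ(X, W)) • z = (c : Γ(X, W)) • n := by
      rw [Submonoid.coe_mul, mul_smul]; exact hc.symm
    rw [this]
    exact Submodule.smul_mem _ _ hn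
  obtain ⟨gen, hgen⟩ := Module.Finite.fg_top (R := Γ(X, W)) (M := Γ(G, W))
  choose a ha using hkill
  let A : Γ(X, W) := ∏ z ∈ gen, (a z : Γ(X, W))
  have hA : ∀ z, A • z ∈ N := fun z => by
    have hz : z ∈ Submodule.span Γ(X, W) (gen : Set Γ(G, W)) := hgen ▸ Submodule.mem_top
    induction hz using Submodule.span_induction with
    | mem y hy =>
      show (∏ z ∈ gen, (a z : Γ(X, W))) • y ∈ N
      rw [← Finset.prod_erase_mul _ _ hy, mul_smul]
      exact Submodule.smul_mem _ _ (ha y)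
    | zero => rw [smul_zero]; exact zero_mem _
    | add b c _ _ hb hc => rw [smul_add]; exact add_mem hb hc
    | smul r b _ hb => rw [smul_comm]; exact Submodule.smul_mem _ r hb
  have hAP : A ∈ P := prod_mem fun z _ => (a z).2
  have hxA : x ∈ X.basicOpen A := (primeCompl_primeIdealOf hW x hxW A).mp hAP
  letI := Module.compHom Γ(G, X.basicOpen A) (X.presheaf.map (homOfLE (X.basicOpen_le A)).op).hom
  letI : Algebra Γ(X, W) Γ(X, X.basicOpen A) :=
    (X.presheaf.map (homOfLE (X.basicOpen_le A)).op).hom.toAlgebra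
  haveI : IsScalarTower Γ(X, W) Γ(X, X.basicOpen A) Γ(G, X.basicOpen A) :=
    .of_algebraMap_smul fun _ _ => rfl
  haveI := hW.isLocalization_basicOpen A
  obtain ⟨r, hr⟩ := QCohLib.exists_isLocalizedModule_res G hW A
  haveI := hr
  refine ⟨V, X.basicOpen A, hV, hW.basicOpen A, hxA, (X.basicOpen_le A).trans hWV,
    fun i => r (m i), eq_top_iff.2 fun y _ => ?_⟩
  obtain ⟨⟨z, t⟩, rfl⟩ := IsLocalizedModule.mk'_surjective (Submonoid.powers A) r y
  have hu : IsUnit (algebraMap Γ(X, W) Γ(X, X.basicOpen A) ((t : Γ(X, W)) * A)) := by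
    rw [map_mul]
    exact (IsLocalization.map_units _ t).mul (IsLocalization.map_units _ ⟨A, Submonoid.mem_powers A⟩)
  refine (Submodule.smul_mem_iff_of_isUnit _ hu).1 ?_
  have h1 : algebraMap Γ(X, W) Γ(X, X.basicOpen A) ((t : Γ(X, W)) * A) •
      Function.uncurry (IsLocalizedModule.mk' r) (z, t) = r (A • z) := by
    rw [algebraMap_smul, mul_comm, mul_smul, Function.uncurry_apply_pair,
      show (t : Γ(X, W)) • IsLocalizedModule.mk' r z t = r z from IsLocalizedModule.mk'_cancel' r z t,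
      map_smul]
  rw [h1]
  have h2 := hA z
  generalize A • z = w at h2 ⊢
  induction h2 using Submodule.span_induction with
  | mem y hy =>
    obtain ⟨i, rfl⟩ := hy
    exact Submodule.subset_span ⟨i, rfl⟩
  | zero => rw [map_zero]; exact zero_mem _
  | add b c _ _ hb hc => rw [map_add]; exact add_mem hb hc
  | smul c b _ hb =>
    rw [map_smul, ← algebraMap_smul (A := Γ(X, X.basicOpen A))]
    exact Submodule.smul_mem _ _ hb

/-- A module of finite type which is free of rank `p` at the generic points of all fibres of a smooth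
morphism with irreducible fibres is free near every point at which it is free of rank `p`. -/
theorem isFreeOfRankNear_of_freeAt [Smooth q] [GeometricallyIrreducible q] (G : X.Modules)
    [Coh.IsQCoh G] (hG : CohB1.IsFT G) (p : ℕ)
    (hgen : ∀ η, FlatFun.IsGenericPtOfFibre q η → FreeAt p G η) (x : X) (hx : FreeAt p G x) :
    FlatFun.IsFreeOfRankNear G p x := by
  classical
  obtain ⟨V, D, hV, hD, hxD, hDV, m, hm⟩ := exists_spanning q G hG p x hx
  letI : Algebra Γ(T, V) Γ(X, D) := (q.appLE V D hDV).hom.toAlgebra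
  haveI : Algebra.Smooth Γ(T, V) Γ(X, D) := by
    have h : (q.appLE V D hDV).hom.Smooth :=
      HasRingHomProperty.appLE @Smooth q inferInstance ⟨V, hV⟩ ⟨D, hD⟩ hDV
    exact h
  have hsq : ∀ Q : PrimeSpectrum Γ(X, D),
      hV.fromSpec (PrimeSpectrum.comap (algebraMap Γ(T, V) Γ(X, D)) Q) = q (hD.fromSpec Q) := fun Q =>
    (congrArg (fun φ => φ Q) (hV.SpecMap_appLE_fromSpec q hD hDV) :)
  have hgen' : ∀ Q : PrimeSpectrum Γ(X, D), MinInFibre Γ(T, V) Q.asIdeal →
      FlatFun.IsGenericPtOfFibre q (hD.fromSpec Q) := fun Q hQ => by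
    obtain ⟨η, hηt, hη⟩ := exists_genericPt q (q (hD.fromSpec Q))
    have hsp : η ⤳ hD.fromSpec Q := hη _ hηt.symm
    have hηD : η ∈ D := hsp.mem_open D.2 (hD.range_fromSpec.le ⟨Q, rfl⟩)
    obtain ⟨Q', rfl⟩ : η ∈ Set.range hD.fromSpec := hD.range_fromSpec.ge hηD
    have hle : Q'.asIdeal ≤ Q.asIdeal := (PrimeSpectrum.le_iff_specializes Q' Q).2
      (hD.fromSpec.isEmbedding.isInducing.specializes_iff.1 hsp)
    have hc : PrimeSpectrum.comap (algebraMap Γ(T, V) Γ(X, D)) Q' =
        PrimeSpectrum.comap (algebraMap Γ(T, V) Γ(X, D)) Q := hV.fromSpec.isEmbedding.injective (by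
      rw [hsq, hsq]; exact hηt)
    have := hQ.2 Q'.asIdeal Q'.2 hle (congrArg PrimeSpectrum.asIdeal hc)
    rwa [← PrimeSpectrum.ext this]
  let ψ : (Fin p → Γ(X, D)) →ₗ[Γ(X, D)] Γ(G, D) := Fintype.linearCombination Γ(X, D) m
  have hsurj : Function.Surjective ψ := LinearMap.range_eq_top.1 (by
    rw [Fintype.range_linearCombination, hm])
  have hinj : Function.Injective ψ := (injective_iff_map_eq_zero ψ).2 fun b hb => funext fun i => by
    refine eq_zero_of_vanish (A := Γ(T, V)) (fun Q Q' hQ hQ' h => ?_) (b i) fun Q hQ => ?_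
    · have h1 := genericPt_unique q (hgen' ⟨Q, hQ.1⟩ hQ) (hgen' ⟨Q', hQ'.1⟩ hQ') (by
        rw [← hsq, ← hsq]
        exact congrArg hV.fromSpec (PrimeSpectrum.ext h))
      exact congrArg PrimeSpectrum.asIdeal (hD.fromSpec.isEmbedding.injective h1)
    · let η := hD.fromSpec (⟨Q, hQ.1⟩ : PrimeSpectrum Γ(X, D))
      have hηD : η ∈ D := hD.range_fromSpec.le ⟨_, rfl⟩
      have hP : (hD.primeIdealOf ⟨η, hηD⟩).asIdeal = Q :=
        congrArg PrimeSpectrum.asIdeal (hD.fromSpec.isEmbedding.injective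
          (show hD.fromSpec (hD.primeIdealOf ⟨η, hηD⟩) = _ from hD.fromSpec_primeIdealOf ⟨η, hηD⟩))
      letI := Module.compHom (G.presheaf.stalk η) (X.presheaf.germ D η hηD).hom
      letI : Algebra Γ(X, D) (X.presheaf.stalk η) :=
        TopCat.Presheaf.algebra_section_stalk X.presheaf ⟨η, hηD⟩
      haveI := hD.isLocalization_stalk ⟨η, hηD⟩
      haveI : IsScalarTower Γ(X, D) (X.presheaf.stalk η) (G.presheaf.stalk η) :=
        .of_algebraMap_smul fun _ _ => rfl
      haveI := FlatLocus.isLocalizedModule_germL G hD η hηD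
      let gl := FlatLocus.germL G D η hηD
      let ψη : (Fin p → X.presheaf.stalk η) →ₗ[X.presheaf.stalk η] G.presheaf.stalk η :=
        Fintype.linearCombination _ fun j => gl (m j)
      have hcomm : ∀ c : Fin p → Γ(X, D), ψη (fun j => algebraMap _ _ (c j)) = gl (ψ c) := fun c => by
        simp [ψη, ψ, Fintype.linearCombination_apply]
      have hψη : Function.Surjective ψη := fun z => by
        obtain ⟨⟨y, t⟩, rfl⟩ := IsLocalizedModule.mk'_surjective (hD.primeIdealOf ⟨η, hηD⟩).asIdeal.primeCompl gl z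
        obtain ⟨c, rfl⟩ := hsurj y
        refine ⟨IsLocalization.mk' (X.presheaf.stalk η) 1 t • fun j => algebraMap _ _ (c j), ?_⟩
        rw [map_smul, hcomm, Function.uncurry_apply_pair]
        refine (IsLocalizedModule.mk'_eq_iff.2 ?_).symm
        rw [Submonoid.smul_def, ← algebraMap_smul (A := X.presheaf.stalk η), smul_smul,
          IsLocalization.mk'_spec', map_one, one_smul]
      obtain ⟨eη⟩ := hgen η (hgen' ⟨Q, hQ.1⟩ hQ)
      have hbij : Function.Bijective (eη.toLinearMap ∘ₗ ψη) :=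
        OrzechProperty.bijective_of_surjective_endomorphism _ (eη.surjective.comp hψη)
      have h0 : (fun j => algebraMap Γ(X, D) (X.presheaf.stalk η) (b j)) = 0 := hbij.1 (by
        rw [LinearMap.comp_apply, hcomm, hb, map_zero, map_zero, map_zero])
      obtain ⟨g, hg⟩ := (IsLocalization.map_eq_zero_iff (hD.primeIdealOf ⟨η, hηD⟩).asIdeal.primeCompl
        (X.presheaf.stalk η) (b i)).1 (congrFun h0 i)
      exact ⟨g, hP ▸ g.2, hg⟩
  exact ⟨D, hxD, FlatLocus.nonempty_iso_freeMod G hD p (LinearEquiv.ofBijective ψ ⟨hinj, hsurj⟩).symm⟩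

end Groth.Agent.GenFreeLocus
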