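import Groth.Agent.FibAssLib.Detect
import Groth.Agent.FibAssLib.Fibre
import Groth.Agent.S9407
import Mathlib

/-!
# Functions on a smooth algebra vanishing at the generic points of all fibres
-/

set_option autoImplicit false
set_option linter.style.haveILetI false
set_option backward.isDefEq.respectTransparency false

universe u

open TensorProduct

namespace Groth.Agent.GenFreeLocus

attribute [local instance] Algebra.TensorProduct.rightAlgebra

variable {A B : Type u} [CommRing A] [CommRing B] [Algebra A B]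

/-- A prime is minimal in its fibre. -/
def MinInFibre (A : Type u) {B : Type u} [CommRing A] [CommRing B] [Algebra A B] (q : Ideal B) : Prop :=
  q.IsPrime ∧ ∀ q' : Ideal B, q'.IsPrime → q' ≤ q →
    q'.comap (algebraMap A B) = q.comap (algebraMap A B) → q' = q

theorem exists_minInFibre_le (q₀ : Ideal B) [q₀.IsPrime] :
    ∃ q, MinInFibre A q ∧ q ≤ q₀ ∧ q.comap (algebraMap A B) = q₀.comap (algebraMap A B) := by
  obtain ⟨q, hq, hle⟩ := Ideal.exists_minimalPrimes_le
    (I := (q₀.comap (algebraMap A B)).map (algebraMap A B)) (J := q₀) (Ideal.map_comap_le)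
  have hc : q.comap (algebraMap A B) = q₀.comap (algebraMap A B) :=
    le_antisymm (Ideal.comap_mono hle) (Ideal.map_le_iff_le_comap.1 hq.1.2)
  refine ⟨q, ⟨hq.1.1, fun q' hq' hle' hc' => le_antisymm hle' (hq.2 ⟨hq', ?_⟩ hle')⟩, hle, hc⟩
  rw [Ideal.map_le_iff_le_comap, hc', hc]

theorem associatedPrime_minimal_of_isReduced {R : Type u} [CommRing R] [IsNoetherianRing R] [IsReduced R]
    {Q : Ideal R} (hQ : Q ∈ associatedPrimes R R) : Q ∈ minimalPrimes R := by
  haveI := hQ.isPrime
  obtain ⟨-, y, hy⟩ := isAssociatedPrime_iff.mp hQ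
  have hy0 : y ≠ 0 := fun h => ‹Q.IsPrime›.ne_top (by rw [hy, h]; simp)
  obtain ⟨P, hP, hyP⟩ : ∃ P ∈ minimalPrimes R, y ∉ P := by
    by_contra hcon
    push Not at hcon
    have : y ∈ sInf (minimalPrimes R) := Ideal.mem_sInf.2 fun {P} hP => hcon P hP
    rw [minimalPrimes_eq_minimals, ← minimalPrimes_eq_minimals] at this
    have h0 : y ∈ (⊥ : Ideal R).radical := by
      rw [← Ideal.sInf_minimalPrimes]; exact this
    exact hy0 (IsNilpotent.eq_zero h0)
  have hle : Q ≤ P := fun a ha => by
    rw [hy] at ha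
    have ha' : a * y = 0 := by simpa [Submodule.mem_colon_singleton] using ha
    exact (hP.1.1.mem_or_mem (ha' ▸ P.zero_mem)).resolve_right hyP
  exact (le_antisymm hle (hP.2 ⟨inferInstance, bot_le⟩ hle)).symm ▸ hP

/-- On a smooth algebra whose fibres have a unique generic point, an element vanishing near all of
them is zero. -/
theorem eq_zero_of_vanish [Algebra.Smooth A B]
    (huniq : ∀ q q' : Ideal B, MinInFibre A q → MinInFibre A q' →
      q.comap (algebraMap A B) = q'.comap (algebraMap A B) → q = q')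
    (b : B) (hb : ∀ q : Ideal B, MinInFibre A q → ∃ g, g ∉ q ∧ g * b = 0) : b = 0 := by
  classical
  haveI : Algebra.FinitePresentation A B := inferInstance
  haveI : Module.Flat A B := inferInstance
  let G := {g : B // g * b = 0}
  let U : G → Set (PrimeSpectrum A) := fun g =>
    PrimeSpectrum.comap (algebraMap A B) '' (PrimeSpectrum.basicOpen g.1 : Set (PrimeSpectrum B))
  have hU : ∀ g, IsOpen (U g) := fun g =>
    PrimeSpectrum.isOpenMap_comap_of_hasGoingDown_of_finitePresentation _ (PrimeSpectrum.basicOpen g.1).2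
  obtain ⟨s, hs⟩ := (isCompact_range (PrimeSpectrum.continuous_comap (algebraMap A B))).elim_finite_subcover U hU
    fun p ⟨q₀, hq₀⟩ => by
      obtain ⟨q, hq, -, hqc⟩ := exists_minInFibre_le (A := A) q₀.asIdeal
      obtain ⟨g, hg, hgb⟩ := hb q hq
      refine Set.mem_iUnion.2 ⟨⟨g, hgb⟩, ⟨q, hq.1⟩, hg, ?_⟩
      rw [← hq₀]
      exact PrimeSpectrum.ext hqc
  let B' := ∀ i : s, Localization.Away (i.1.1)
  haveI : Module.Flat B B' :=
    haveI : ∀ i : s, Module.Flat B (Localization.Away (i.1.1)) := fun i => IsLocalization.flat _ (Submonoid.powers i.1.1)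
    Module.Flat.of_linearEquiv (DirectSum.linearEquivFunOnFintype B s fun i : s => Localization.Away (i.1.1)).symm
  have h := FibAssLib.univInj_mk (R := A) (S := B) (N := B) (S' := B') fun p q _ _ _ hass => by
    have hcq : q.comap (algebraMap A B) = p := (Ideal.LiesOver.over (p := p) (P := q)).symm
    obtain ⟨hQ, hQc⟩ := FibAssLib.fiberIdeal_spec (R := A) p q
    have hQ' : FlatCA.fiberIdeal (R := A) p q ∈ associatedPrimes (p.Fiber B) (p.Fiber B) := by
      let e : FlatCA.fiberMod p B B ≃ₗ[p.Fiber B] p.Fiber B :=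
        TensorProduct.AlgebraTensorModule.rid B (p.Fiber B) (p.Fiber B)
      rwa [← LinearEquiv.AssociatedPrimes.eq e]
    haveI : IsReduced (p.Fiber B) := Groth.Agent.S9407.result p.ResidueField (p.Fiber B)
    haveI : IsNoetherianRing (p.Fiber B) :=
      Algebra.FiniteType.isNoetherianRing p.ResidueField (p.Fiber B)
    have hmin := associatedPrime_minimal_of_isReduced hQ'
    have hq : MinInFibre A q := ⟨inferInstance, fun q' hq'' hle hc => by
      haveI : q'.LiesOver p := ⟨(hc.trans hcq).symm⟩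
      obtain ⟨hQ₁, hQ₁c⟩ := FibAssLib.fiberIdeal_spec (R := A) p q'
      have h1 := hmin.2 ⟨hQ₁, bot_le⟩ (Ideal.map_mono hle)
      exact le_antisymm hle (hQc ▸ hQ₁c ▸ Ideal.comap_mono h1)⟩
    have hp : (⟨p, inferInstance⟩ : PrimeSpectrum A) ∈
        Set.range (PrimeSpectrum.comap (algebraMap A B)) := ⟨⟨q, inferInstance⟩, PrimeSpectrum.ext hcq⟩
    obtain ⟨g, hg, q₀, hgq₀, hq₀⟩ := Set.mem_iUnion₂.1 (hs hp)
    obtain ⟨q₁, hq₁, hle₁, hc₁⟩ := exists_minInFibre_le (A := A) q₀.asIdeal
    have hqq : q₁ = q := huniq q₁ q hq₁ hq (by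
      rw [hc₁, hcq]; exact congrArg PrimeSpectrum.asIdeal hq₀)
    have hgq : g.1 ∉ q := fun h => hgq₀ (hle₁ (hqq ▸ h))
    let q'' : Ideal (Localization.Away g.1) := q.map (algebraMap B _)
    have hd : Disjoint (Submonoid.powers g.1 : Set B) (q : Set B) := by
      rw [Set.disjoint_left]
      rintro _ ⟨n, rfl⟩ hn
      exact hgq (Ideal.IsPrime.mem_of_pow_mem ‹q.IsPrime› n hn)
    haveI : q''.IsPrime := IsLocalization.isPrime_of_isPrime_disjoint (Submonoid.powers g.1) _ q inferInstance hd
    refine ⟨q''.comap (Pi.evalRingHom (fun i : s => Localization.Away (i.1.1)) ⟨g, hg⟩), inferInstance, ?_⟩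
    rw [Ideal.comap_comap]
    exact IsLocalization.comap_map_of_isPrime_disjoint (Submonoid.powers g.1) (Localization.Away g.1) (hI := inferInstance) hd
  have hinj := h A
  have hzero : ∀ i : s, algebraMap B (Localization.Away (i.1.1)) b = 0 := fun i =>
    (IsLocalization.map_eq_zero_iff (Submonoid.powers i.1.1) _ b).2 ⟨⟨i.1.1, Submonoid.mem_powers _⟩, i.1.2⟩
  have hb0 : (TensorProduct.mk B B' B 1) b = 0 := by
    rw [TensorProduct.mk_apply]
    apply (TensorProduct.rid B B').injective
    rw [TensorProduct.rid_tmul, map_zero]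
    funext i
    rw [Pi.smul_apply, Pi.one_apply, Algebra.smul_def, mul_one]
    exact hzero i
  refine (TensorProduct.lid A B).symm.injective ?_
  apply hinj
  simp [hb0]

end Groth.Agent.GenFreeLocus
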